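import Groth.Agent.Lib.Henselian.StrictData
import Groth.Agent.Lib.Henselian.StrictHenselization
import Mathlib.FieldTheory.IsSepClosed
import Mathlib.RingTheory.QuasiFinite.Basic
import Mathlib.RingTheory.TensorProduct.Maps
import Mathlib.RingTheory.Adjoin.FG

/-!
# Maps between strict henselizations, and quasi-finite subalgebras of localizations
-/

universe u

open IsLocalRing TensorProduct

namespace Groth.Agent.Lib.LocAcycBC.Lift

open Groth.Agent.Lib.Henselian

variable {A Ash : Type u} [CommRing A] [IsLocalRing A] [CommRing Ash] [IsLocalRing Ash]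
  [Algebra A Ash] [IsLocalHom (algebraMap A Ash)] [hA : Hensel.IsStrictHenselization A Ash]
  {T : Type u} [CommRing T] [HenselianLocalRing T]

/-- A lift with prescribed residue map is local. -/
theorem isLocalHom_of_residue (g : Ash →+* T) (τ : ResidueField Ash →+* ResidueField T)
    (h : ∀ x, residue T (g x) = τ (residue Ash x)) : IsLocalHom g := by
  refine ⟨fun x hx => ?_⟩
  by_contra hu
  have h0 : residue Ash x = 0 := (residue_eq_zero_iff _).2 hu
  have := h x
  rw [h0, map_zero] at this
  exact (hx.map (residue T)).ne_zero this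

/-- Local maps into a henselian ring with separably closed residue field extend to the strict
henselization. -/
theorem exists_ringHom [IsSepClosed (ResidueField T)] (f : A →+* T) [IsLocalHom f] :
    ∃ g : Ash →+* T, IsLocalHom g ∧ g.comp (algebraMap A Ash) = f := by
  have := hA.isSepClosure.separable
  let : Algebra (ResidueField A) (ResidueField T) := (ResidueField.map f).toAlgebra
  let τ : ResidueField Ash →ₐ[ResidueField A] ResidueField T := IsSepClosed.lift
  obtain ⟨g, ⟨hg, hgτ⟩, -⟩ := hA.universal T f τ.toRingHom (RingHom.ext fun x => τ.commutes x)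
  exact ⟨g, isLocalHom_of_residue g τ.toRingHom hgτ, hg⟩

/-- Local maps to `T` factor through a strict henselization mapping to `T`. -/
theorem exists_factor {C Csh : Type u} [CommRing C] [IsLocalRing C] [CommRing Csh] [IsLocalRing Csh]
    [Algebra C Csh] [IsLocalHom (algebraMap C Csh)] [hC : Hensel.IsStrictHenselization C Csh]
    (j : A →+* C) [IsLocalHom j] (gC : Csh →+* T) [IsLocalHom gC] (h : Ash →+* T) [IsLocalHom h]
    (hcomp : h.comp (algebraMap A Ash) = (gC.comp (algebraMap C Csh)).comp j) :
    ∃ ι : Ash →+* Csh, IsLocalHom ι ∧ ι.comp (algebraMap A Ash) = (algebraMap C Csh).comp j ∧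
      gC.comp ι = h := by
  have := hC.henselian
  have := hC.isSepClosure.sep_closed
  have := hA.isSepClosure.separable
  let tC := ResidueField.map gC
  let th := ResidueField.map h
  let jC : ResidueField A →+* ResidueField Csh := ResidueField.map ((algebraMap C Csh).comp j)
  have hcompr : th.comp (ResidueField.map (algebraMap A Ash)) = tC.comp jC := RingHom.ext fun x => by
    obtain ⟨a, rfl⟩ := residue_surjective x
    exact congrArg (residue T) (RingHom.congr_fun hcomp a)
  have hr : ∀ y, th y ∈ tC.fieldRange := by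
    intro y
    let P := minpoly (ResidueField A) y
    have hP : P.Separable := Algebra.IsSeparable.isSeparable (ResidueField A) y
    have hsplit : (P.map jC).Splits := IsSepClosed.splits_of_separable _ hP.map
    have hroot : ((P.map jC).map tC).IsRoot (th y) := by
      rw [Polynomial.map_map, ← hcompr, Polynomial.IsRoot, Polynomial.eval_map,
        ← Polynomial.hom_eval₂]
      exact (congrArg th (minpoly.aeval (ResidueField A) y)).trans (map_zero th)
    obtain ⟨z, hz⟩ := hsplit.mem_range_of_isRoot (Polynomial.map_ne_zero hP.ne_zero) hroot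
    exact ⟨z, hz⟩
  let e := RingEquiv.ofBijective tC.rangeRestrictField
    (RingHom.rangeRestrictField_bijective tC)
  let τ : ResidueField Ash →+* ResidueField Csh :=
    (e.symm : tC.fieldRange →+* ResidueField Csh).comp (th.codRestrict tC.fieldRange hr)
  have hτ : ∀ y, tC (τ y) = th y := fun y => congrArg Subtype.val (e.apply_symm_apply ⟨th y, hr y⟩)
  have hτ' : τ.comp (ResidueField.map (algebraMap A Ash)) =
      ResidueField.map ((algebraMap C Csh).comp j) :=
    RingHom.ext fun x => tC.injective ((hτ _).trans (RingHom.congr_fun hcompr x))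
  obtain ⟨ι, ⟨hι, hιτ⟩, -⟩ := hA.universal Csh ((algebraMap C Csh).comp j) τ hτ'
  refine ⟨ι, isLocalHom_of_residue ι τ hιτ, hι, ?_⟩
  refine (hA.universal T (h.comp (algebraMap A Ash)) th (RingHom.ext fun x => ?_)).unique
    ⟨?_, fun x => ?_⟩ ⟨rfl, fun x => rfl⟩
  · obtain ⟨a, rfl⟩ := residue_surjective x
    rfl
  · rw [RingHom.comp_assoc, hι, hcomp]
    rfl
  · calc residue T (gC (ι x)) = tC (residue Csh (ι x)) := (ResidueField.map_residue gC _).symm
      _ = tC (τ (residue Ash x)) := by rw [hιτ]
      _ = th (residue Ash x) := hτ _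

/-- Finite subsets of a localization of an algebra all of whose finite subsets lie in quasi-finite
subalgebras of finite type lie in quasi-finite subalgebras of finite type. -/
theorem exists_qf_subalgebra {R C A B : Type u} [CommRing R] [CommRing C] [Algebra R C]
    [CommRing A] [Algebra R A] [CommRing B] [Algebra A B] [Algebra R B] [IsScalarTower R A B]
    [Algebra C B] [IsScalarTower R C B] (M : Submonoid C) [IsLocalization M B]
    (h : ∀ t : Finset C, ∃ C₀ : Subalgebra R C, (↑t : Set C) ⊆ ↑C₀ ∧
      Algebra.FiniteType R ↥C₀ ∧ Algebra.QuasiFinite R ↥C₀) (s : Finset B) :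
    ∃ B₀ : Subalgebra A B, (↑s : Set B) ⊆ ↑B₀ ∧ Algebra.FiniteType A ↥B₀ ∧
      Algebra.QuasiFinite A ↥B₀ := by
  classical
  choose c t hct using fun b : B => IsLocalization.exists_mk'_eq M b
  obtain ⟨C₀, hC₀, _, _⟩ := h (s.image c ∪ s.image fun b => (t b : C))
  have hc : ∀ b ∈ s, c b ∈ C₀ := fun b hb =>
    hC₀ (Finset.mem_coe.2 (Finset.mem_union_left _ (Finset.mem_image_of_mem c hb)))
  have ht : ∀ b ∈ s, (t b : C) ∈ C₀ := fun b hb =>
    hC₀ (Finset.mem_coe.2 (Finset.mem_union_right _ (Finset.mem_image_of_mem (fun b => (t b : C)) hb)))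
  let T : ↥C₀ := ∏ b : {b // b ∈ s}, ⟨(t b : C), ht b b.2⟩
  let φ₀ : ↥C₀ →ₐ[R] B := (IsScalarTower.toAlgHom R C B).comp C₀.val
  have hu : ∀ y : Submonoid.powers T, IsUnit (φ₀ y) := by
    rintro ⟨_, n, rfl⟩
    show IsUnit (φ₀ (T ^ n))
    rw [map_pow, map_prod]
    exact (IsUnit.prod_iff.2 fun b _ => IsLocalization.map_units B (t b.1)).pow _
  let ψ : Localization.Away T →ₐ[R] B := IsLocalization.liftAlgHom (f := φ₀) hu
  have : Algebra.FiniteType ↥C₀ (Localization.Away T) :=
    IsLocalization.finiteType_of_monoid_fg (Submonoid.powers T) _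
  have : Algebra.FiniteType R (Localization.Away T) :=
    Algebra.FiniteType.trans (S := ↥C₀) inferInstance inferInstance
  have : Algebra.QuasiFinite R (Localization.Away T) :=
    Algebra.QuasiFinite.of_isLocalization (Submonoid.powers T)
  let φ : A ⊗[R] Localization.Away T →ₐ[A] B :=
    Algebra.TensorProduct.lift (Algebra.ofId A B) ψ fun _ _ => .all _ _
  refine ⟨φ.range, fun b hb => ?_,
    Algebra.FiniteType.of_surjective φ.rangeRestrict φ.rangeRestrict_surjective,
    Algebra.QuasiFinite.of_surjective_algHom φ.rangeRestrict φ.rangeRestrict_surjective⟩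
  rw [Finset.mem_coe] at hb
  have hdiv : (⟨(t b : C), ht b hb⟩ : ↥C₀) ∣ T :=
    Finset.dvd_prod_of_mem (fun b : {b // b ∈ s} => (⟨(t b : C), ht b b.2⟩ : ↥C₀))
      (Finset.mem_univ (⟨b, hb⟩ : {b // b ∈ s}))
  have hunit : IsUnit (algebraMap ↥C₀ (Localization.Away T) ⟨(t b : C), ht b hb⟩) :=
    isUnit_of_dvd_unit (map_dvd _ hdiv) (IsLocalization.Away.algebraMap_isUnit T)
  obtain ⟨u, hu'⟩ := hunit.exists_left_inv
  refine ⟨(1 : A) ⊗ₜ[R] (algebraMap ↥C₀ (Localization.Away T) ⟨c b, hc b hb⟩ * u), ?_⟩
  have hψ : ∀ x : ↥C₀, ψ (algebraMap ↥C₀ _ x) = algebraMap C B x := fun x =>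
    IsLocalization.lift_eq _ x
  show φ _ = b
  refine (Algebra.TensorProduct.lift_tmul _ _ _ _ _).trans ?_
  rw [map_one, one_mul]
  conv_rhs => rw [← hct b]
  rw [IsLocalization.eq_mk'_iff_mul_eq, ← hψ ⟨(t b : C), ht b hb⟩, ← map_mul, mul_assoc, hu',
    mul_one]
  exact hψ _

end Groth.Agent.Lib.LocAcycBC.Lift
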