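import Groth.Agent.Lib.LocAcycBC.Lift
import Groth.Agent.Lib.Henselian.StrictBaseChange
import Groth.Agent.Lib.EtRad.Push
import Groth.Prelude.Def_EtRestW
import Groth.Prelude.Def_Hens2
import Groth.Prelude.Def_EtCore
import Mathlib.AlgebraicGeometry.Morphisms.QuasiFinite
import Mathlib.AlgebraicGeometry.Morphisms.Integral

/-!
# Local acyclicity is stable under locally quasi-finite and integral base change
-/

universe u

open CategoryTheory CategoryTheory.Limits AlgebraicGeometry Opposite TensorProduct

namespace Groth.Agent.Lib.LocAcycBC.Main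

open Groth.Agent.Lib.Henselian

/-- Locally on source and target `g` is given by algebras all of whose finite subsets lie in
quasi-finite subalgebras of finite type. -/
def QFCond {S S' : Scheme.{u}} (g : S' ⟶ S) : Prop :=
  ∀ s' : S', ∃ (U : S.Opens) (V : S'.Opens) (e : V ≤ g ⁻¹ᵁ U), IsAffineOpen V ∧ s' ∈ V ∧
    letI := (g.appLE U V e).hom.toAlgebra
    ∀ t : Finset Γ(S', V), ∃ C₀ : Subalgebra Γ(S, U) Γ(S', V), (↑t : Set Γ(S', V)) ⊆ ↑C₀ ∧
      Algebra.FiniteType Γ(S, U) ↥C₀ ∧ Algebra.QuasiFinite Γ(S, U) ↥C₀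

theorem qfCond_of_locallyQuasiFinite {S S' : Scheme.{u}} (g : S' ⟶ S) [LocallyOfFiniteType g]
    [LocallyQuasiFinite g] : QFCond g := by
  intro s'
  obtain ⟨_, ⟨U, hU, rfl⟩, hxU, -⟩ := S.isBasis_affineOpens.exists_subset_of_mem_open
    (Set.mem_univ (g.base s')) isOpen_univ
  obtain ⟨_, ⟨V, hV, rfl⟩, hxV, hVU⟩ := S'.isBasis_affineOpens.exists_subset_of_mem_open
    (show s' ∈ (g ⁻¹ᵁ U : Set S') from hxU) (g ⁻¹ᵁ U).2
  refine ⟨U, V, hVU, hV, hxV, ?_⟩
  let := (g.appLE U V hVU).hom.toAlgebra
  have h1 : Algebra.FiniteType Γ(S, U) Γ(S', V) := g.finiteType_appLE hU hV hVU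
  have h2 : Algebra.QuasiFinite Γ(S, U) Γ(S', V) := LocallyQuasiFinite.quasiFinite_appLE (f := g) hU hV hVU
  exact fun t => ⟨⊤, fun _ _ => trivial, Algebra.FiniteType.equiv h1 Subalgebra.topEquiv.symm,
    (Algebra.QuasiFinite.iff_of_algEquiv Subalgebra.topEquiv).2 h2⟩

theorem qfCond_of_integral {S S' : Scheme.{u}} (g : S' ⟶ S) [IsIntegralHom g] : QFCond g := by
  intro s'
  obtain ⟨_, ⟨U, hU, rfl⟩, hxU, -⟩ := S.isBasis_affineOpens.exists_subset_of_mem_open
    (Set.mem_univ (g.base s')) isOpen_univ
  refine ⟨U, g ⁻¹ᵁ U, le_rfl, hU.preimage g, hxU, ?_⟩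
  let := (g.appLE U (g ⁻¹ᵁ U) le_rfl).hom.toAlgebra
  have : Algebra.IsIntegral Γ(S, U) Γ(S', g ⁻¹ᵁ U) := by
    refine ⟨fun x => ?_⟩
    have h := IsIntegralHom.isIntegral_app g U hU x
    rwa [g.app_eq_appLE] at h
  intro t
  refine ⟨Algebra.adjoin Γ(S, U) ↑t, Algebra.subset_adjoin,
    (Subalgebra.fg_iff_finiteType _).mp ⟨t, rfl⟩, ?_⟩
  have : Module.Finite Γ(S, U) ↥(Algebra.adjoin Γ(S, U) (↑t : Set Γ(S', g ⁻¹ᵁ U))) :=
    Algebra.finite_adjoin_of_finite_of_isIntegral t.finite_toSet
      fun x _ => Algebra.IsIntegral.isIntegral x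
  infer_instance

theorem stalk_cond {S S' : Scheme.{u}} {g : S' ⟶ S} (hg : QFCond g) (s' : S') {s : S}
    (hs : g.base s' = s) :
    letI := (S.presheaf.stalkSpecializes (Inseparable.of_eq hs).specializes ≫
      g.stalkMap s').hom.toAlgebra
    ∀ t : Finset (S'.presheaf.stalk s'),
      ∃ B₀ : Subalgebra (S.presheaf.stalk s) (S'.presheaf.stalk s'), (↑t : Set (S'.presheaf.stalk s')) ⊆ (↑B₀ : Set (S'.presheaf.stalk s')) ∧
        Algebra.FiniteType (S.presheaf.stalk s) ↥B₀ ∧
        Algebra.QuasiFinite (S.presheaf.stalk s) ↥B₀ := by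
  intro t
  let := (S.presheaf.stalkSpecializes (Inseparable.of_eq hs).specializes ≫
    g.stalkMap s').hom.toAlgebra
  obtain ⟨U, V, e, hV, hsV, hC⟩ := hg s'
  let := (g.appLE U V e).hom.toAlgebra
  have hsU : s ∈ U := hs ▸ e hsV
  let := (S.presheaf.germ U s hsU).hom.toAlgebra
  let := TopCat.Presheaf.algebra_section_stalk S'.presheaf (⟨s', hsV⟩ : V)
  have := hV.isLocalization_stalk ⟨s', hsV⟩
  let j := S.presheaf.stalkSpecializes (Inseparable.of_eq hs).specializes ≫ g.stalkMap s'
  let : Algebra Γ(S, U) (S'.presheaf.stalk s') :=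
    (j.hom.comp (S.presheaf.germ U s hsU).hom).toAlgebra
  have : IsScalarTower Γ(S, U) (S.presheaf.stalk s) (S'.presheaf.stalk s') :=
    IsScalarTower.of_algebraMap_eq' rfl
  have : IsScalarTower Γ(S, U) Γ(S', V) (S'.presheaf.stalk s') := by
    refine IsScalarTower.of_algebraMap_eq' ?_
    refine congrArg CommRingCat.Hom.hom (?_ :
      S.presheaf.germ U s hsU ≫ j = g.appLE U V e ≫ S'.presheaf.germ V s' hsV)
    rw [TopCat.Presheaf.germ_stalkSpecializes_assoc, Scheme.Hom.germ_stalkMap,
      Scheme.Hom.appLE, Category.assoc, S'.presheaf.germ_res]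
  exact Lift.exists_qf_subalgebra (R := Γ(S, U)) (C := Γ(S', V))
    (hV.primeIdealOf ⟨s', hsV⟩).asIdeal.primeCompl hC t

theorem ringHom_ext {X : Scheme.{u}} {x : X} {R : Type u} [CommRing R]
    (θ θ' : X.presheaf.stalk x →+* R)
    (h : Spec.map (CommRingCat.ofHom θ) ≫ X.fromSpecStalk x =
      Spec.map (CommRingCat.ofHom θ') ≫ X.fromSpecStalk x) : θ = θ' :=
  congrArg CommRingCat.Hom.hom (Spec.map_injective ((cancel_mono (X.fromSpecStalk x)).1 h))

theorem spec_map_comp {A B C : Type u} [CommRing A] [CommRing B] [CommRing C] (f : A →+* B)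
    (g : B →+* C) : Spec.map (CommRingCat.ofHom (g.comp f)) =
      Spec.map (CommRingCat.ofHom g) ≫ Spec.map (CommRingCat.ofHom f) := by
  rw [CommRingCat.ofHom_comp, Spec.map_comp]

theorem exists_lift_local {X : Scheme.{u}} {R : Type u} [CommRing R] [IsLocalRing R]
    (m : Spec (CommRingCat.of R) ⟶ X) (x : X) (h : m.base (IsLocalRing.closedPoint R) = x) :
    ∃ θ : X.presheaf.stalk x →+* R,
      Spec.map (CommRingCat.ofHom θ) ≫ X.fromSpecStalk x = m := by
  subst h
  exact ⟨(Scheme.stalkClosedPointTo m).hom, Scheme.Spec_stalkClosedPointTo_fromSpecStalk m⟩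

theorem isLocalHom_stalkSpecializes {X : Scheme.{u}} {a b : X} (h : a = b) :
    IsLocalHom (X.presheaf.stalkSpecializes (Inseparable.of_eq h).specializes).hom := by
  subst h
  rw [TopCat.Presheaf.stalkSpecializes_refl]
  exact isLocalHom_id _

theorem specOf_closedPoint (X : Scheme.{u}) (x : X) (R : Type u) [CommRing R] [IsLocalRing R]
    [Algebra (X.presheaf.stalk x) R] [IsLocalHom (algebraMap (X.presheaf.stalk x) R)] :
    (Hens2.specOf X x R).base (IsLocalRing.closedPoint R) = x := by
  rw [Scheme.Hom.comp_apply]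
  have : IsLocalHom (CommRingCat.ofHom (algebraMap (X.presheaf.stalk x) R)).hom := ‹_›
  rw [Spec_closedPoint, Scheme.fromSpecStalk_closedPoint]

/-- Transport along isomorphisms of rings. -/
theorem point_cohomology_of_ringEquiv {A B : Type u} [CommRing A] [CommRing B] (e : A ≃+* B) (n : ℕ)
    (h : (∀ q : ℕ, 0 < q → Subsingleton (EtCoh.H (Spec (CommRingCat.of A))
        (EtCoh.const (Spec (CommRingCat.of A)) (ZMod n)) q)) ∧
      Nonempty (EtCoh.H (Spec (CommRingCat.of A)) (EtCoh.const (Spec (CommRingCat.of A)) (ZMod n)) 0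
        ≃+ ZMod n)) :
    (∀ q : ℕ, 0 < q → Subsingleton (EtCoh.H (Spec (CommRingCat.of B))
        (EtCoh.const (Spec (CommRingCat.of B)) (ZMod n)) q)) ∧
      Nonempty (EtCoh.H (Spec (CommRingCat.of B)) (EtCoh.const (Spec (CommRingCat.of B)) (ZMod n)) 0
        ≃+ ZMod n) := by
  let f : Spec (CommRingCat.of B) ⟶ Spec (CommRingCat.of A) :=
    Spec.map (CommRingCat.ofHom e.toRingHom)
  have : IsIso f := by
    have : IsIso (CommRingCat.ofHom e.toRingHom) := (e.toCommRingCatIso).isIso_hom
    infer_instance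
  have Φ : ∀ q, EtCoh.H (Spec (CommRingCat.of A)) (EtCoh.const _ (ZMod n)) q ≃+
      EtCoh.H (Spec (CommRingCat.of B)) (EtCoh.const _ (ZMod n)) q := fun q =>
    (AddEquiv.ofBijective _ (EtRad.Push.Hpull_bijective f (EtCoh.const _ (ZMod n)) q)).trans
      ((EtCoh.HF _ q).mapIso (EtCore.pullConst f (ZMod n))).addCommGroupIsoToAddEquiv
  refine ⟨fun q hq => ?_, ⟨(Φ 0).symm.trans h.2.some⟩⟩
  have := h.1 q hq
  exact (Φ q).symm.toEquiv.subsingleton

attribute [local instance] Algebra.TensorProduct.rightAlgebra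

/-- Local acyclicity is stable under base change by morphisms which are locally ind-quasi-finite. -/
theorem isLocallyAcyclic_snd {X S S' : Scheme.{u}} (f : X ⟶ S) (g : S' ⟶ S) (hg : QFCond g)
    (hf : EtRest.IsLocallyAcyclic f) : EtRest.IsLocallyAcyclic (pullback.snd f g) := by
  intro x' RS' RX' _ _ _ _ _ _ hS' _ _ hX' _ _ hc Ω _ _ _ n hn
  have := hS'.henselian
  have := hX'.henselian
  have := hX'.isSepClosure.sep_closed
  let x := (pullback.fst f g).base x'
  let s := f.base x
  let s' := (pullback.snd f g).base x'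
  have hs : g.base s' = s :=
    (Scheme.Hom.comp_apply _ _ x').symm.trans ((congrArg (fun m => m.base x')
      (pullback.condition (f := f) (g := g)).symm).trans (Scheme.Hom.comp_apply _ _ x'))
  let RS := StrictHenselization.StrictHenselization (S.presheaf.stalk s)
  let RX := StrictHenselization.StrictHenselization (X.presheaf.stalk x)
  have hS := StrictHenselization.isStrictHenselization (S.presheaf.stalk s)
  have hX := StrictHenselization.isStrictHenselization (X.presheaf.stalk x)
  have : IsSepClosed (IsLocalRing.ResidueField RX) := hX.isSepClosure.sep_closed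
  -- the maps
  obtain ⟨gC, hgC, hgC'⟩ := Lift.exists_ringHom (Ash := RX)
    ((algebraMap ((pullback f g).presheaf.stalk x') RX').comp ((pullback.fst f g).stalkMap x').hom)
  obtain ⟨ι₀, hι₀, hι₀'⟩ := Lift.exists_ringHom (Ash := RS)
    ((algebraMap (X.presheaf.stalk x) RX).comp (f.stalkMap x).hom)
  let j := S.presheaf.stalkSpecializes (Inseparable.of_eq hs).specializes ≫ g.stalkMap s'
  have : IsLocalHom j.hom :=
    have := isLocalHom_stalkSpecializes hs
    RingHom.isLocalHom_comp (g.stalkMap s').hom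
      (S.presheaf.stalkSpecializes (Inseparable.of_eq hs).specializes).hom
  have hE1 : Spec.map (CommRingCat.ofHom gC) ≫ Hens2.specOf X x RX =
      Hens2.specOf (pullback f g) x' RX' ≫ pullback.fst f g := by
    rw [← Category.assoc, ← spec_map_comp, hgC', CommRingCat.ofHom_comp, Spec.map_comp,
      CommRingCat.ofHom_hom, Category.assoc, Scheme.SpecMap_stalkMap_fromSpecStalk]
    exact (Category.assoc _ _ _).symm
  have hE2 : Spec.map (CommRingCat.ofHom (algebraMap RS' RX')) ≫ Hens2.specOf S' s' RS' =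
      Hens2.specOf (pullback f g) x' RX' ≫ pullback.snd f g := by
    rw [← Category.assoc, ← spec_map_comp, hc, CommRingCat.ofHom_comp, Spec.map_comp,
      CommRingCat.ofHom_hom, Category.assoc, Scheme.SpecMap_stalkMap_fromSpecStalk]
    exact (Category.assoc _ _ _).symm
  have hE0 : Spec.map (CommRingCat.ofHom ι₀) ≫ Hens2.specOf S s RS = Hens2.specOf X x RX ≫ f := by
    rw [← Category.assoc, ← spec_map_comp, hι₀', CommRingCat.ofHom_comp, Spec.map_comp,
      CommRingCat.ofHom_hom, Category.assoc, Scheme.SpecMap_stalkMap_fromSpecStalk]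
    exact (Category.assoc _ _ _).symm
  have hE3 : Spec.map j ≫ S.fromSpecStalk s = S'.fromSpecStalk s' ≫ g := by
    rw [Spec.map_comp, Category.assoc, Scheme.SpecMap_stalkSpecializes_fromSpecStalk,
      Scheme.SpecMap_stalkMap_fromSpecStalk]
  have hcomp : (gC.comp ι₀).comp (algebraMap (S.presheaf.stalk s) RS) =
      ((algebraMap RS' RX').comp (algebraMap (S'.presheaf.stalk s') RS')).comp j.hom := by
    apply ringHom_ext
    rw [spec_map_comp, spec_map_comp, spec_map_comp, spec_map_comp, CommRingCat.ofHom_hom]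
    simp only [Category.assoc]
    rw [hE3, hE0, ← Category.assoc, hE1, reassoc_of% hE2]
    simp only [Category.assoc, pullback.condition]
  obtain ⟨ι, hι, hι', hιg⟩ := Lift.exists_factor (Ash := RS) (Csh := RS') j.hom
    (algebraMap RS' RX') (gC.comp ι₀) hcomp
  have hE4 : Spec.map (CommRingCat.ofHom ι) ≫ Hens2.specOf S s RS = Hens2.specOf S' s' RS' ≫ g := by
    rw [← Category.assoc, ← spec_map_comp, hι', CommRingCat.ofHom_comp, Spec.map_comp,
      CommRingCat.ofHom_hom, Category.assoc, hE3]
    exact (Category.assoc _ _ _).symm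
  -- the algebras
  let : Algebra RS RS' := ι.toAlgebra
  let : Algebra RS RX := ι₀.toAlgebra
  let : Algebra RX RX' := gC.toAlgebra
  let : Algebra RS RX' := (gC.comp ι₀).toAlgebra
  have : IsScalarTower RS RX RX' := IsScalarTower.of_algebraMap_eq' rfl
  have : IsScalarTower RS RS' RX' := IsScalarTower.of_algebraMap_eq' hιg.symm
  have : IsLocalHom (algebraMap RS RS') := hι
  have : IsLocalHom (algebraMap RS RX) := hι₀
  have : IsLocalHom (algebraMap RX RX') := hgC
  have : Algebra.IsIntegral RS RS' := by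
    let : Algebra (S.presheaf.stalk s) (S'.presheaf.stalk s') := j.hom.toAlgebra
    let : Algebra (S.presheaf.stalk s) RS' :=
      ((algebraMap (S'.presheaf.stalk s') RS').comp j.hom).toAlgebra
    have : IsScalarTower (S.presheaf.stalk s) (S'.presheaf.stalk s') RS' :=
      IsScalarTower.of_algebraMap_eq' rfl
    have : IsScalarTower (S.presheaf.stalk s) RS RS' := IsScalarTower.of_algebraMap_eq' hι'.symm
    exact StrictBaseChange.isIntegral_of_quasiFinite_subalgebras (S.presheaf.stalk s)
      (S'.presheaf.stalk s') RS RS' StrictData.of_isStrictHenselization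
      StrictData.of_isStrictHenselization (stalk_cond hg s' hs)
  -- the tensor product is the strict henselization of the base change
  let M := RS' ⊗[RS] RX
  let π := Algebra.TensorProduct.lift (IsScalarTower.toAlgHom RS RS' RX')
    (IsScalarTower.toAlgHom RS RX RX') (fun _ _ => Commute.all _ _)
  have hbij : Function.Bijective π := by
    have : IsSepClosed (IsLocalRing.ResidueField RS) := hS.isSepClosure.sep_closed
    have : Algebra.IsIntegral (IsLocalRing.ResidueField RS) (IsLocalRing.ResidueField RS') :=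
      ⟨fun y => by
        obtain ⟨z, rfl⟩ := IsLocalRing.residue_surjective y
        exact ((Algebra.IsIntegral.isIntegral (R := RS) z).map
          (IsScalarTower.toAlgHom RS RS' (IsLocalRing.ResidueField RS'))).tower_top⟩
    have : Algebra.IsAlgebraic (IsLocalRing.ResidueField RS) (IsLocalRing.ResidueField RS') :=
      Algebra.IsIntegral.isAlgebraic
    obtain ⟨_, hloc, -⟩ := PurInsepTensor.exists_isLocalRing_tensor RS RS' RX
    let iL : RS' →+* M := algebraMap RS' M
    let iR : RX →+* M := algebraMap RX M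
    have : IsLocalHom iR := hloc
    have : Algebra.IsIntegral RX M := ⟨fun z => by
      have h := (Algebra.IsIntegral.isIntegral (R := RX)
        ((Algebra.TensorProduct.commRight RS RX RS').symm z)).map
          (Algebra.TensorProduct.commRight RS RX RS').toAlgHom
      simpa using h⟩
    have hπL : π.toRingHom.comp iL = algebraMap RS' RX' := RingHom.ext fun b => by simp [π, iL, M]
    have hπR : π.toRingHom.comp iR = algebraMap RX RX' :=
      RingHom.ext fun c => by simp [π, iR, M, RingHom.algebraMap_toAlgebra]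
    have hπloc : IsLocalHom π.toRingHom := by
      refine ((IsLocalRing.local_hom_TFAE _).out 0 4 rfl rfl).mpr (IsLocalRing.eq_maximalIdeal ?_)
      have : ((IsLocalRing.maximalIdeal RX').comap π.toRingHom).IsPrime := Ideal.comap_isPrime _ _
      refine Ideal.isMaximal_of_isIntegral_of_isMaximal_comap (R := RX) _ ?_
      rw [Ideal.comap_comap, show π.toRingHom.comp (algebraMap RX M) = algebraMap RX RX' from hπR,
        ((IsLocalRing.local_hom_TFAE (algebraMap RX RX')).out 0 4 rfl rfl).mp inferInstance]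
      exact IsLocalRing.maximalIdeal.isMaximal RX
    have hincl : iR.comp ι₀ = iL.comp ι := RingHom.ext fun r =>
      ((Algebra.TensorProduct.includeRight : RX →ₐ[RS] M).commutes r).trans
        ((Algebra.TensorProduct.includeLeft : RS' →ₐ[RS] M).commutes r).symm
    let m : Spec (CommRingCat.of M) ⟶ pullback f g :=
      pullback.lift (Spec.map (CommRingCat.ofHom iR) ≫ Hens2.specOf X x RX)
        (Spec.map (CommRingCat.ofHom iL) ≫ Hens2.specOf S' s' RS') (by
          refine (Category.assoc _ _ _).trans ((_ ≫= hE0.symm).trans ?_)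
          rw [← Category.assoc, ← spec_map_comp, hincl, spec_map_comp, Category.assoc, hE4]
          exact (Category.assoc _ _ _).symm)
    have hm : Spec.map (CommRingCat.ofHom π.toRingHom) ≫ m = Hens2.specOf (pullback f g) x' RX' := by
      refine pullback.hom_ext ?_ ?_
      · refine (Category.assoc _ _ _).trans ?_
        rw [pullback.lift_fst, ← Category.assoc, ← spec_map_comp, hπR]
        exact hE1
      · refine (Category.assoc _ _ _).trans ?_
        rw [pullback.lift_snd, ← Category.assoc, ← spec_map_comp, hπL]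
        exact hE2
    have hx' : m.base (IsLocalRing.closedPoint M) = x' := by
      have : IsLocalHom (CommRingCat.ofHom π.toRingHom).hom := hπloc
      rw [← Spec_closedPoint (f := CommRingCat.ofHom π.toRingHom), ← Scheme.Hom.comp_apply, hm]
      exact specOf_closedPoint _ x' RX'
    obtain ⟨θ, hθ⟩ := exists_lift_local m x' hx'
    refine StrictBaseChange.tensor_bijective (B := S'.presheaf.stalk s') (C := X.presheaf.stalk x)
      (D := (pullback f g).presheaf.stalk x')
      (StrictData.of_isStrictHenselization (R := S.presheaf.stalk s))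
      StrictData.of_isStrictHenselization StrictData.of_isStrictHenselization
      StrictData.of_isStrictHenselization θ ((pullback.snd f g).stalkMap x').hom
      ((pullback.fst f g).stalkMap x').hom ?_ ?_ ?_
    · apply ringHom_ext
      rw [spec_map_comp, Category.assoc, hθ]
      exact hm
    · apply ringHom_ext
      rw [spec_map_comp, spec_map_comp, CommRingCat.ofHom_hom, Category.assoc, Category.assoc,
        Scheme.SpecMap_stalkMap_fromSpecStalk, reassoc_of% hθ]
      exact pullback.lift_snd _ _ _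
    · apply ringHom_ext
      rw [spec_map_comp, spec_map_comp, CommRingCat.ofHom_hom, Category.assoc, Category.assoc,
        Scheme.SpecMap_stalkMap_fromSpecStalk, reassoc_of% hθ]
      exact pullback.lift_fst _ _ _
  -- conclusion
  let : Algebra RS Ω := ((algebraMap RS' Ω).comp ι).toAlgebra
  have : IsScalarTower RS RS' Ω := IsScalarTower.of_algebraMap_eq' rfl
  let eπ : M ≃ₐ[RS'] RX' := AlgEquiv.ofRingEquiv (f := RingEquiv.ofBijective π.toRingHom hbij)
    fun b => by simp [π, M]
  let e : EtRest.vcRing RS RX Ω ≃+* EtRest.vcRing RS' RX' Ω :=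
    ((Algebra.TensorProduct.comm RS RX Ω).toRingEquiv.trans
      (Algebra.TensorProduct.cancelBaseChange RS RS' RS' Ω RX).toRingEquiv.symm).trans
    ((Algebra.TensorProduct.congr (S := RS') (AlgEquiv.refl : Ω ≃ₐ[RS'] Ω) eπ).toRingEquiv.trans
      (Algebra.TensorProduct.comm RS' Ω RX').toRingEquiv)
  refine point_cohomology_of_ringEquiv e n (hf x RS RX hι₀' Ω n fun h0 => hn ?_)
  have := congrArg ((pullback.fst f g).residueFieldMap x').hom h0
  rwa [map_natCast, map_zero] at this

end Groth.Agent.Lib.LocAcycBC.Main
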